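import Groth.Agent.ZBProjQuot.Alg
import Groth.Agent.SGA1Q.Affine
import Mathlib.AlgebraicGeometry.ProjectiveSpectrum.Basic

/-!
# `Proj` of the ring of invariants is the quotient of `Proj`
-/

universe u

open CategoryTheory AlgebraicGeometry TopologicalSpace HomogeneousLocalization

namespace Groth.Agent.ZBProjQuot

variable {X Y : Scheme.{u}} {G : Type u} [Group G]

/-- Sections over a chart are the invariants when the rings of the chart are. -/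
theorem app_chart (ρ : G →* Aut X) (p : X ⟶ Y) (hinv : ∀ g : G, (ρ g).hom ≫ p = p)
    {A' C' : CommRingCat.{u}} (a : Spec A' ⟶ X) (b : Spec C' ⟶ Y) [IsOpenImmersion a]
    [IsOpenImmersion b] (θ : C' ⟶ A') (hab : a ≫ p = Spec.map θ ≫ b)
    (hpre : p ⁻¹ᵁ b.opensRange = a.opensRange) (τ : G → (A' ⟶ A'))
    (hτ : ∀ g, a ≫ (ρ g).hom = Spec.map (τ g) ≫ a) (hinj : Function.Injective θ.hom)
    (hfix : ∀ z : A', (∀ g, (τ g).hom z = z) → z ∈ Set.range θ.hom) :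
    Function.Injective (p.app b.opensRange).hom ∧
    ∀ s : Γ(X, p ⁻¹ᵁ b.opensRange), (∀ g : G,
      ((ρ g).hom.appLE (p ⁻¹ᵁ b.opensRange) (p ⁻¹ᵁ b.opensRange)
        (SGA1.preimage_le_of_inv ρ p hinv g _)).hom s = s) →
      s ∈ Set.range (p.app b.opensRange).hom := by
  have hle : (⊤ : (Spec A').Opens) ≤ a ⁻¹ᵁ (p ⁻¹ᵁ b.opensRange) := fun v _ => by
    show a v ∈ p ⁻¹ᵁ b.opensRange
    rw [hpre]; exact ⟨v, rfl⟩
  have hleb : (⊤ : (Spec C').Opens) ≤ b ⁻¹ᵁ b.opensRange := fun v _ => ⟨v, rfl⟩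
  have hα : IsIso (a.appLE (p ⁻¹ᵁ b.opensRange) ⊤ hle) := by
    haveI := a.isIso_app (p ⁻¹ᵁ b.opensRange) hpre.le
    have heq : (⊤ : (Spec A').Opens) = a ⁻¹ᵁ (p ⁻¹ᵁ b.opensRange) := le_antisymm hle le_top
    haveI : IsIso (homOfLE hle) := by
      rw [Subsingleton.elim (homOfLE hle) (eqToHom heq)]; infer_instance
    exact IsIso.comp_isIso
  have hβ : IsIso (b.appLE b.opensRange ⊤ hleb) := by
    haveI := b.isIso_app b.opensRange le_rfl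
    have heq : (⊤ : (Spec C').Opens) = b ⁻¹ᵁ b.opensRange := le_antisymm hleb le_top
    haveI : IsIso (homOfLE hleb) := by
      rw [Subsingleton.elim (homOfLE hleb) (eqToHom heq)]; infer_instance
    exact IsIso.comp_isIso
  set α := a.appLE (p ⁻¹ᵁ b.opensRange) ⊤ hle ≫ (Scheme.ΓSpecIso A').hom with hαdef
  set β := b.appLE b.opensRange ⊤ hleb ≫ (Scheme.ΓSpecIso C').hom with hβdef
  have hθ : ∀ (φ : C' ⟶ A') (e : (⊤ : (Spec A').Opens) ≤ Spec.map φ ⁻¹ᵁ ⊤),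
      (Spec.map φ).appLE ⊤ ⊤ e ≫ (Scheme.ΓSpecIso A').hom = (Scheme.ΓSpecIso C').hom ≫ φ :=
    fun φ e => by
      rw [show (Spec.map φ).appLE ⊤ ⊤ e = (Spec.map φ).appTop from Scheme.Hom.appLE_eq_app _]
      exact Scheme.ΓSpecIso_naturality φ
  have hA : ∀ (φ : A' ⟶ A') (e : (⊤ : (Spec A').Opens) ≤ Spec.map φ ⁻¹ᵁ ⊤),
      (Spec.map φ).appLE ⊤ ⊤ e ≫ (Scheme.ΓSpecIso A').hom = (Scheme.ΓSpecIso A').hom ≫ φ :=
    fun φ e => by
      rw [show (Spec.map φ).appLE ⊤ ⊤ e = (Spec.map φ).appTop from Scheme.Hom.appLE_eq_app _]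
      exact Scheme.ΓSpecIso_naturality φ
  have hsq : p.app b.opensRange ≫ α = β ≫ θ := by
    have h2 : (⊤ : (Spec A').Opens) ≤ Spec.map θ ⁻¹ᵁ ⊤ := fun _ _ => trivial
    have e1 : p.app b.opensRange ≫ a.appLE (p ⁻¹ᵁ b.opensRange) ⊤ hle =
        b.appLE b.opensRange ⊤ hleb ≫ (Spec.map θ).appLE ⊤ ⊤ h2 := by
      rw [Scheme.Hom.app_eq_appLE, Scheme.Hom.appLE_comp_appLE, Scheme.Hom.appLE_comp_appLE]
      exact SGA1Q.appLE_congr_hom hab _ _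
    rw [hαdef, hβdef, Category.assoc, ← hθ θ h2, ← Category.assoc, e1, Category.assoc]
  have hαb := ConcreteCategory.bijective_of_isIso α
  have hβb := ConcreteCategory.bijective_of_isIso β
  refine ⟨fun x y hxy => hβb.1 (hinj ?_), fun s hs => ?_⟩
  · exact (congr(($hsq).hom x)).symm.trans ((congrArg α.hom hxy).trans congr(($hsq).hom y))
  · obtain ⟨t, ht⟩ := hfix (α.hom s) fun g => by
      have h2 : (⊤ : (Spec A').Opens) ≤ Spec.map (τ g) ⁻¹ᵁ ⊤ := fun _ _ => trivial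
      have e1 : (ρ g).hom.appLE _ _ (SGA1.preimage_le_of_inv ρ p hinv g b.opensRange) ≫
          a.appLE (p ⁻¹ᵁ b.opensRange) ⊤ hle =
          a.appLE (p ⁻¹ᵁ b.opensRange) ⊤ hle ≫ (Spec.map (τ g)).appLE ⊤ ⊤ h2 := by
        rw [Scheme.Hom.appLE_comp_appLE, Scheme.Hom.appLE_comp_appLE]
        exact SGA1Q.appLE_congr_hom (hτ g) _ _
      have e : (ρ g).hom.appLE _ _ (SGA1.preimage_le_of_inv ρ p hinv g b.opensRange) ≫ α =
          α ≫ τ g := by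
        rw [hαdef, Category.assoc, ← hA (τ g) h2, ← Category.assoc, e1, Category.assoc]
      exact (congr(($e).hom s)).symm.trans (congrArg α.hom (hs g))
    obtain ⟨t', rfl⟩ := hβb.2 t
    exact ⟨t', hαb.1 ((congr(($hsq).hom t')).trans ht)⟩

variable [Finite G] {R A C : Type u} [CommRing R] [CommRing A] [Algebra R A] [CommRing C]
  [Algebra R C] (𝒜 : ℕ → Submodule R A) [GradedAlgebra 𝒜] (𝒞 : ℕ → Submodule R C)
  [GradedAlgebra 𝒞] [MulSemiringAction G A]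
  (hGdeg : ∀ (σ : G) (i : ℕ) (a : A), a ∈ 𝒜 i → σ • a ∈ 𝒜 i)
  (ι : C →ₐ[R] A) (hι : Function.Injective ι)
  (hιdeg : ∀ (i : ℕ) (a : A), a ∈ (𝒞 i).map ι.toLinearMap ↔ (a ∈ 𝒜 i ∧ ∀ σ : G, σ • a = a))

include hGdeg hι hιdeg in
theorem isQuot_proj (ρ : G →* Aut (Proj 𝒜))
    (hρ : ∀ (σ : G) (n : ℕ) (f : A) (hn : 0 < n) (hf : f ∈ 𝒜 n)
      (θ : CommRingCat.of (HomogeneousLocalization.Away 𝒜 f) ⟶
        CommRingCat.of (HomogeneousLocalization.Away 𝒜 (σ • f))),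
      (algebraMap (HomogeneousLocalization.Away 𝒜 (σ • f)) (Localization.Away (σ • f))).comp θ.hom =
        (Localization.awayMap (MulSemiringAction.toRingHom G A σ) f).comp
          (algebraMap (HomogeneousLocalization.Away 𝒜 f) (Localization.Away f)) →
      Proj.awayι 𝒜 (σ • f) (hGdeg σ n f hf) hn ≫ (ρ σ).inv =
        Spec.map θ ≫ Proj.awayι 𝒜 f hf hn)
    (π : Proj 𝒜 ⟶ Proj 𝒞)
    (hπ : ∀ (n : ℕ) (c : C) (hn : 0 < n) (hc : c ∈ 𝒞 n)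
      (θ : CommRingCat.of (HomogeneousLocalization.Away 𝒞 c) ⟶
        CommRingCat.of (HomogeneousLocalization.Away 𝒜 (ι c))),
      (algebraMap (HomogeneousLocalization.Away 𝒜 (ι c)) (Localization.Away (ι c))).comp θ.hom =
        (Localization.awayMap ι.toRingHom c).comp
          (algebraMap (HomogeneousLocalization.Away 𝒞 c) (Localization.Away c)) →
      Proj.awayι 𝒜 (ι c) ((hιdeg n (ι c)).mp (Submodule.mem_map_of_mem hc)).1 hn ≫ π =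
        Spec.map θ ≫ Proj.awayι 𝒞 c hc hn) :
    SGA1.IsQuot ρ π := by
  let θ : ∀ c : C, CommRingCat.of (Away 𝒞 c) ⟶ CommRingCat.of (Away 𝒜 (ι c)) := fun c =>
    CommRingCat.ofHom (locMap 𝒜 𝒞 ι.toRingHom (fun _ _ h => iota_mem 𝒜 𝒞 ι hιdeg h) c (ι c) rfl)
  let a : ∀ {n : ℕ} (hn : 0 < n) {c : C} (hc : c ∈ 𝒞 n),
      Spec (CommRingCat.of (Away 𝒜 (ι c))) ⟶ Proj 𝒜 :=
    fun {n} hn {c} hc => Proj.awayι 𝒜 (ι c) (iota_mem 𝒜 𝒞 ι hιdeg hc) hn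
  have hab : ∀ {n : ℕ} (hn : 0 < n) {c : C} (hc : c ∈ 𝒞 n),
      a hn hc ≫ π = Spec.map (θ c) ≫ Proj.awayι 𝒞 c hc hn := fun {n} hn {c} hc =>
    hπ n c hn hc (θ c) (locMap_compat 𝒜 𝒞 _ _ c hc)
  have key : ∀ (σ : G) {n : ℕ} (hn : 0 < n) {c : C} (hc : c ∈ 𝒞 n) (f' : A)
      (e : MulSemiringAction.toRingHom G A σ (ι c) = f') (hf' : f' ∈ 𝒜 n),
      Proj.awayι 𝒜 f' hf' hn ≫ (ρ σ).inv = Spec.map (CommRingCat.ofHom (locMap 𝒜 𝒜
        (MulSemiringAction.toRingHom G A σ) (toRingHom_mem 𝒜 hGdeg σ) (ι c) f' e)) ≫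
        Proj.awayι 𝒜 (ι c) (iota_mem 𝒜 𝒞 ι hιdeg hc) hn := by
    intro σ n hn c hc f' e hf'
    subst e
    let ψ : CommRingCat.of (Away 𝒜 (ι c)) ⟶ CommRingCat.of (Away 𝒜 (σ • ι c)) :=
      CommRingCat.ofHom (locMap 𝒜 𝒜 (MulSemiringAction.toRingHom G A σ)
        (toRingHom_mem 𝒜 hGdeg σ) (ι c) (σ • ι c) rfl)
    exact hρ σ n (ι c) hn (iota_mem 𝒜 𝒞 ι hιdeg hc) ψ
      (locMap_compat 𝒜 𝒜 (MulSemiringAction.toRingHom G A σ) (toRingHom_mem 𝒜 hGdeg σ) (ι c)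
        (iota_mem 𝒜 𝒞 ι hιdeg hc))
  have hτ : ∀ (g : G) {n : ℕ} (hn : 0 < n) {c : C} (hc : c ∈ 𝒞 n),
      a hn hc ≫ (ρ g).hom =
        Spec.map (CommRingCat.ofHom (actLoc 𝒜 𝒞 hGdeg ι g⁻¹ hc hιdeg)) ≫ a hn hc := by
    intro g n hn c hc
    have h := key g⁻¹ hn hc (ι c) (toRingHom_iota 𝒜 𝒞 ι hιdeg hc g⁻¹) (iota_mem 𝒜 𝒞 ι hιdeg hc)
    rw [map_inv] at h
    exact h
  have hpos : ∀ x : Proj 𝒜, ∃ (n : ℕ) (c : C), 0 < n ∧ c ∈ 𝒞 n ∧ x ∈ Proj.basicOpen 𝒜 (ι c) := by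
    intro x
    haveI := x.isPrime
    obtain ⟨m, f, hm, hfm, hf⟩ := exists_pos_notMem 𝒜 x.asHomogeneousIdeal.toIdeal x.not_irrelevant_le
    obtain ⟨n, c, hn, hc, h⟩ :=
      exists_homogeneous_notMem 𝒜 𝒞 ι x.asHomogeneousIdeal.toIdeal f hm hfm hf hGdeg hιdeg
    exact ⟨n, c, hn, hc, (Proj.mem_basicOpen 𝒜 (ι c) x).2 h⟩
  have hrange : ∀ (x : Proj 𝒜), ∃ (n : ℕ) (c : C) (hn : 0 < n) (hc : c ∈ 𝒞 n),
      x ∈ (a hn hc).opensRange := by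
    intro x
    obtain ⟨n, c, hn, hc, hx⟩ := hpos x
    exact ⟨n, c, hn, hc, by
      show x ∈ (Proj.awayι 𝒜 (ι c) _ hn).opensRange
      rw [Proj.opensRange_awayι]; exact hx⟩
  choose n c hn hc hx using hrange
  have hxs : ∀ x, ∃ z, a (hn x) (hc x) z = x := fun x => hx x
  let 𝒰 : (Proj 𝒜).AffineOpenCover :=
    { I₀ := Proj 𝒜
      X := fun x => CommRingCat.of (Away 𝒜 (ι (c x)))
      f := fun x => a (hn x) (hc x)
      idx := fun x => x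
      covers := hx
      map_prop := fun x => inferInstanceAs (IsOpenImmersion (Proj.awayι 𝒜 _ _ _)) }
  have hinv : ∀ g : G, (ρ g).hom ≫ π = π := fun g => by
    refine 𝒰.openCover.hom_ext _ _ fun x => ?_
    show a (hn x) (hc x) ≫ (ρ g).hom ≫ π = a (hn x) (hc x) ≫ π
    rw [reassoc_of% hτ g (hn x) (hc x), hab (hn x) (hc x), ← Spec.map_comp_assoc]
    congr 2
    ext1
    exact actLoc_comp_locMap 𝒜 𝒞 hGdeg ι hιdeg g⁻¹ (hc x)
  have hpre : ∀ {n : ℕ} (hn' : 0 < n) {d : C} (hd : d ∈ 𝒞 n),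
      π ⁻¹ᵁ (Proj.awayι 𝒞 d hd hn').opensRange = (a hn' hd).opensRange := by
    intro m hm d hd
    rw [Proj.opensRange_awayι]
    refine le_antisymm (fun x hxd => ?_) ?_
    · obtain ⟨z, hz⟩ := hxs x
      have h1 : Spec.map (θ (c x)) z ∈ Proj.awayι 𝒞 (c x) (hc x) (hn x) ⁻¹ᵁ Proj.basicOpen 𝒞 d := by
        show (Spec.map (θ (c x)) ≫ Proj.awayι 𝒞 (c x) (hc x) (hn x)) z ∈ Proj.basicOpen 𝒞 d
        rw [← hab (hn x) (hc x)]
        show π (a (hn x) (hc x) z) ∈ _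
        rw [hz]; exact hxd
      rw [Proj.awayι_preimage_basicOpen 𝒞 (hc x) (hn x) hd hm] at h1
      have h2 : z ∈ a (hn x) (hc x) ⁻¹ᵁ Proj.basicOpen 𝒜 (ι d) := by
        show z ∈ Proj.awayι 𝒜 (ι (c x)) _ (hn x) ⁻¹ᵁ Proj.basicOpen 𝒜 (ι d)
        rw [Proj.awayι_preimage_basicOpen 𝒜 (iota_mem 𝒜 𝒞 ι hιdeg (hc x)) (hn x)
          (iota_mem 𝒜 𝒞 ι hιdeg hd) hm]
        have e : (θ (c x)).hom (Away.isLocalizationElem (hc x) hd) =
            Away.isLocalizationElem (iota_mem 𝒜 𝒞 ι hιdeg (hc x)) (iota_mem 𝒜 𝒞 ι hιdeg hd) := by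
          show locMap 𝒜 𝒞 _ _ (c x) _ rfl (Away.mk 𝒞 (hc x) m _ _) = _
          rw [locMap_mk 𝒜 𝒞 _ _ (c x) _ rfl (hc x) (iota_mem 𝒜 𝒞 ι hιdeg (hc x))]
          ext
          rw [Away.val_mk, Away.val_mk, map_pow]
          rfl
        show _ ∉ z.asIdeal
        rw [← e]
        exact h1
      show x ∈ (Proj.awayι 𝒜 (ι d) _ hm).opensRange
      rw [Proj.opensRange_awayι, ← hz]
      exact h2
    · rintro _ ⟨z, rfl⟩
      show (a hm hd ≫ π) z ∈ Proj.basicOpen 𝒞 d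
      rw [hab hm hd, ← Proj.opensRange_awayι 𝒞 d hd hm]
      exact ⟨_, rfl⟩
  have hcovC : ∀ y : Proj 𝒞, ∃ (m : ℕ) (d : C) (hm : 0 < m) (hd : d ∈ 𝒞 m),
      y ∈ (Proj.awayι 𝒞 d hd hm).opensRange := by
    intro y
    haveI := y.isPrime
    obtain ⟨m, d, hm, hd, hy⟩ := exists_pos_notMem 𝒞 y.asHomogeneousIdeal.toIdeal y.not_irrelevant_le
    exact ⟨m, d, hm, hd, by rw [Proj.opensRange_awayι]; exact hy⟩
  have haff : IsAffineHom π := by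
    refine isAffineHom_of_forall_exists_isAffineOpen _ fun y => ?_
    obtain ⟨m, d, hm, hd, hy⟩ := hcovC y
    refine ⟨_, hy, isAffineOpen_opensRange _, ?_⟩
    rw [hpre hm hd]
    exact isAffineOpen_opensRange _
  refine SGA1Q.isQuot_of_affine_cover haff hinv fun y => ?_
  obtain ⟨m, d, hm, hd, hy⟩ := hcovC y
  refine ⟨_, isAffineOpen_opensRange _, hy, app_chart ρ π hinv (a hm hd) _ (θ d) (hab hm hd)
    (hpre hm hd) (fun g => CommRingCat.ofHom (actLoc 𝒜 𝒞 hGdeg ι g⁻¹ hd hιdeg))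
    (fun g => hτ g hm hd) (locMap_injective 𝒜 𝒞 ι hι hιdeg hd) fun z hz => ?_⟩
  refine mem_range_locMap 𝒜 𝒞 hGdeg ι hιdeg hd z fun σ => ?_
  have h := hz σ⁻¹
  simp only [inv_inv] at h
  exact h

end Groth.Agent.ZBProjQuot
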