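import Mathlib.RingTheory.GradedAlgebra.HomogeneousLocalization
import Mathlib.RingTheory.GradedAlgebra.RingHom
import Mathlib.RingTheory.GradedAlgebra.Homogeneous.Ideal
import Mathlib.RingTheory.Invariant.Basic
import Mathlib.Algebra.Algebra.Basic
import Mathlib.Algebra.GradedMulAction

/-!
# Invariants of homogeneous localizations
-/

universe u

namespace Groth.Agent.ZBProjQuot

open HomogeneousLocalization

/-- A ring map preserving degrees, as a graded ring map. -/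
def gradedOf {R A B : Type u} [CommRing R] [CommRing A] [Algebra R A] [CommRing B] [Algebra R B]
    (𝒜 : ℕ → Submodule R A) (ℬ : ℕ → Submodule R B) (f : A →+* B)
    (hf : ∀ i a, a ∈ 𝒜 i → f a ∈ ℬ i) : 𝒜 →+*ᵍ ℬ where
  toRingHom := f
  map_mem := hf _ _

variable {R A C : Type u} [CommRing R] [CommRing A] [Algebra R A] [CommRing C] [Algebra R C]
  (𝒜 : ℕ → Submodule R A) [GradedAlgebra 𝒜] (𝒞 : ℕ → Submodule R C) [GradedAlgebra 𝒞]

/-- The map of homogeneous localizations attached to a degree-preserving ring map. -/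
noncomputable def locMap (φ : C →+* A) (hφ : ∀ i a, a ∈ 𝒞 i → φ a ∈ 𝒜 i) (c : C) (f : A)
    (e : φ c = f) : Away 𝒞 c →+* Away 𝒜 f :=
  HomogeneousLocalization.map (gradedOf 𝒞 𝒜 φ hφ) (by
    rintro _ ⟨n, rfl⟩
    exact ⟨n, (show f ^ n = φ (c ^ n) by rw [map_pow, e])⟩)

theorem locMap_mk (φ : C →+* A) (hφ : ∀ i a, a ∈ 𝒞 i → φ a ∈ 𝒜 i) (c : C) (f : A)
    (e : φ c = f) {n : ℕ} (hc : c ∈ 𝒞 n) (hf : f ∈ 𝒜 n) (k : ℕ) (x : C) (hx : x ∈ 𝒞 (k • n)) :
    locMap 𝒜 𝒞 φ hφ c f e (Away.mk 𝒞 hc k x hx) = Away.mk 𝒜 hf k (φ x) (hφ _ _ hx) := by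
  subst e
  ext
  simp [locMap, Away.mk, HomogeneousLocalization.map_mk, gradedOf, HomogeneousLocalization.val_mk]

/-- The compatibility with the maps of localizations. -/
theorem locMap_compat (φ : C →+* A) (hφ : ∀ i a, a ∈ 𝒞 i → φ a ∈ 𝒜 i) (c : C) {n : ℕ}
    (hc : c ∈ 𝒞 n) :
    (algebraMap (Away 𝒜 (φ c)) (Localization.Away (φ c))).comp (locMap 𝒜 𝒞 φ hφ c (φ c) rfl) =
      (Localization.awayMap φ c).comp (algebraMap (Away 𝒞 c) (Localization.Away c)) := by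
  refine RingHom.ext fun z => ?_
  obtain ⟨k, x, hx, rfl⟩ := Away.mk_surjective 𝒞 hc z
  rw [RingHom.comp_apply, RingHom.comp_apply, locMap_mk 𝒜 𝒞 φ hφ c _ rfl hc (hφ _ _ hc),
    HomogeneousLocalization.algebraMap_apply, HomogeneousLocalization.algebraMap_apply,
    Away.val_mk, Away.val_mk, Localization.mk_eq_mk', Localization.mk_eq_mk',
    Localization.awayMap, IsLocalization.Away.map, IsLocalization.map_mk']
  simp only [map_pow]

/-- Multiplying numerator and denominator by the same power. -/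
theorem mk_eq_mk {f : A} {n : ℕ} (hf : f ∈ 𝒜 n) {k l : ℕ} {x y : A} (hx : x ∈ 𝒜 (k • n))
    (hy : y ∈ 𝒜 (l • n)) (h : f ^ l * x = f ^ k * y) :
    Away.mk 𝒜 hf k x hx = Away.mk 𝒜 hf l y hy := by
  ext
  rw [Away.val_mk, Away.val_mk, Localization.mk_eq_mk_iff, Localization.r_iff_exists]
  exact ⟨1, by simpa using h⟩

theorem exists_of_mk_eq {f : A} {n : ℕ} (hf : f ∈ 𝒜 n) {k : ℕ} {x y : A} (hx : x ∈ 𝒜 (k • n))
    (hy : y ∈ 𝒜 (k • n)) (h : Away.mk 𝒜 hf k x hx = Away.mk 𝒜 hf k y hy) :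
    ∃ N, f ^ N * x = f ^ N * y := by
  have h' := congrArg HomogeneousLocalization.val h
  rw [Away.val_mk, Away.val_mk, Localization.mk_eq_mk_iff, Localization.r_iff_exists] at h'
  obtain ⟨⟨_, N, rfl⟩, hN⟩ := h'
  exact ⟨N + k, by simp only [pow_add, mul_assoc]; exact hN⟩

variable {G : Type u} [Group G] [Finite G] [MulSemiringAction G A]
  (hGdeg : ∀ (σ : G) (i : ℕ) (a : A), a ∈ 𝒜 i → σ • a ∈ 𝒜 i)
  (ι : C →ₐ[R] A) (hι : Function.Injective ι)
  (hιdeg : ∀ (i : ℕ) (a : A), a ∈ (𝒞 i).map ι.toLinearMap ↔ (a ∈ 𝒜 i ∧ ∀ σ : G, σ • a = a))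

include hιdeg in
omit [GradedAlgebra 𝒜] [GradedAlgebra 𝒞] [Finite G] in
theorem iota_mem {i : ℕ} {c : C} (hc : c ∈ 𝒞 i) : ι c ∈ 𝒜 i :=
  ((hιdeg i (ι c)).mp (Submodule.mem_map_of_mem hc)).1

include hιdeg in
omit [GradedAlgebra 𝒜] [GradedAlgebra 𝒞] [Finite G] in
theorem smul_iota {i : ℕ} {c : C} (hc : c ∈ 𝒞 i) (σ : G) : σ • ι c = ι c :=
  ((hιdeg i (ι c)).mp (Submodule.mem_map_of_mem hc)).2 σ

include hι hιdeg in
omit [Finite G] in
theorem locMap_injective {n : ℕ} {c : C} (hc : c ∈ 𝒞 n) :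
    Function.Injective (locMap 𝒜 𝒞 ι.toRingHom (fun _ _ h => iota_mem 𝒜 𝒞 ι hιdeg h) c (ι c) rfl) := by
  have hf := iota_mem 𝒜 𝒞 ι hιdeg hc
  rw [injective_iff_map_eq_zero]
  intro z hz
  obtain ⟨k, x, hx, rfl⟩ := Away.mk_surjective 𝒞 hc z
  rw [locMap_mk 𝒜 𝒞 _ _ c (ι c) rfl hc hf] at hz
  have h0 : Away.mk 𝒜 hf k (0 : A) (zero_mem _) = 0 := by
    ext; simp [Away.val_mk, Localization.mk_zero]
  obtain ⟨N, hN⟩ := exists_of_mk_eq 𝒜 hf _ _ (hz.trans h0.symm)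
  have hN' : c ^ N * x = 0 := hι (by
    rw [map_mul, map_pow, map_zero]; simpa using hN)
  ext
  rw [Away.val_mk, HomogeneousLocalization.val_zero, ← Localization.mk_zero 1,
    Localization.mk_eq_mk_iff, Localization.r_iff_exists]
  exact ⟨⟨c ^ N, N, rfl⟩, by simpa using hN'⟩

include hGdeg in
omit [GradedAlgebra 𝒜] [Finite G] in
theorem toRingHom_mem (σ : G) (i : ℕ) (a : A) (ha : a ∈ 𝒜 i) :
    MulSemiringAction.toRingHom G A σ a ∈ 𝒜 i :=
  hGdeg σ i a ha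

include hιdeg in
omit [GradedAlgebra 𝒜] [GradedAlgebra 𝒞] [Finite G] in
theorem toRingHom_iota {i : ℕ} {c : C} (hc : c ∈ 𝒞 i) (σ : G) :
    MulSemiringAction.toRingHom G A σ (ι c) = ι c :=
  smul_iota 𝒜 𝒞 ι hιdeg hc σ

/-- The action of a group element on the homogeneous localization at an invariant element. -/
noncomputable def actLoc (σ : G) {n : ℕ} {c : C} (hc : c ∈ 𝒞 n)
    (hιdeg : ∀ (i : ℕ) (a : A), a ∈ (𝒞 i).map ι.toLinearMap ↔ (a ∈ 𝒜 i ∧ ∀ σ : G, σ • a = a)) :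
    Away 𝒜 (ι c) →+* Away 𝒜 (ι c) :=
  locMap 𝒜 𝒜 (MulSemiringAction.toRingHom G A σ) (toRingHom_mem 𝒜 hGdeg σ) (ι c) (ι c)
    (toRingHom_iota 𝒜 𝒞 ι hιdeg hc σ)

include hιdeg in
/-- Invariant elements of a homogeneous localization come from the invariant ring. -/
theorem mem_range_locMap {n : ℕ} {c : C} (hc : c ∈ 𝒞 n) (z : Away 𝒜 (ι c))
    (hz : ∀ σ, actLoc 𝒜 𝒞 hGdeg ι σ hc hιdeg z = z) :
    z ∈ Set.range (locMap 𝒜 𝒞 ι.toRingHom (fun _ _ h => iota_mem 𝒜 𝒞 ι hιdeg h) c (ι c) rfl) := by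
  cases nonempty_fintype G
  have hf := iota_mem 𝒜 𝒞 ι hιdeg hc
  obtain ⟨k, x, hx, rfl⟩ := Away.mk_surjective 𝒜 hf z
  have hex : ∀ σ : G, ∃ N, ι c ^ N * (σ • x) = ι c ^ N * x := fun σ => by
    have h := hz σ
    rw [actLoc, locMap_mk 𝒜 𝒜 _ _ (ι c) (ι c) _ hf hf] at h
    exact exists_of_mk_eq 𝒜 hf _ _ h
  choose N hN using hex
  set M := Finset.univ.sup N
  have hfix : ∀ σ : G, σ • (ι c ^ M * x) = ι c ^ M * x := fun σ => by
    have hle : N σ ≤ M := Finset.le_sup (Finset.mem_univ σ)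
    rw [smul_mul', smul_pow', smul_iota 𝒜 𝒞 ι hιdeg hc,
      ← Nat.sub_add_cancel hle, pow_add, mul_assoc, hN σ,
      mul_assoc]
  have hmem : ι c ^ M * x ∈ 𝒜 ((M + k) • n) := by
    rw [add_smul]
    exact SetLike.mul_mem_graded (SetLike.pow_mem_graded M hf) hx
  obtain ⟨y, hy, hιy⟩ := (hιdeg _ _).mpr ⟨hmem, hfix⟩
  refine ⟨Away.mk 𝒞 hc (M + k) y hy, ?_⟩
  rw [locMap_mk 𝒜 𝒞 _ _ c (ι c) rfl hc hf]
  refine mk_eq_mk 𝒜 hf _ _ ?_
  rw [show ι.toRingHom y = ι c ^ M * x from hιy, pow_add]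
  ring

include hιdeg in
omit [Finite G] in
theorem actLoc_comp_locMap (σ : G) {n : ℕ} {c : C} (hc : c ∈ 𝒞 n) :
    (actLoc 𝒜 𝒞 hGdeg ι σ hc hιdeg).comp
        (locMap 𝒜 𝒞 ι.toRingHom (fun _ _ h => iota_mem 𝒜 𝒞 ι hιdeg h) c (ι c) rfl) =
      locMap 𝒜 𝒞 ι.toRingHom (fun _ _ h => iota_mem 𝒜 𝒞 ι hιdeg h) c (ι c) rfl := by
  have hf := iota_mem 𝒜 𝒞 ι hιdeg hc
  refine RingHom.ext fun z => ?_
  obtain ⟨k, x, hx, rfl⟩ := Away.mk_surjective 𝒞 hc z
  rw [RingHom.comp_apply, locMap_mk 𝒜 𝒞 _ _ c (ι c) rfl hc hf, actLoc,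
    locMap_mk 𝒜 𝒜 _ _ (ι c) (ι c) _ hf hf]
  congr 1
  exact smul_iota 𝒜 𝒞 ι hιdeg hx σ

omit [GradedAlgebra 𝒞] [GradedAlgebra 𝒜] in
theorem exists_homogeneous_notMem [GradedAlgebra 𝒜] (P : Ideal A) [P.IsPrime] {m : ℕ}
    (f : A) (hm : 0 < m) (hfm : f ∈ 𝒜 m) (hf : f ∉ P)
    (hGdeg : ∀ (σ : G) (i : ℕ) (a : A), a ∈ 𝒜 i → σ • a ∈ 𝒜 i)
    (hιdeg : ∀ (i : ℕ) (a : A), a ∈ (𝒞 i).map ι.toLinearMap ↔ (a ∈ 𝒜 i ∧ ∀ σ : G, σ • a = a)) :
    ∃ (n : ℕ) (c : C), 0 < n ∧ c ∈ 𝒞 n ∧ ι c ∉ P := by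
  classical
  cases nonempty_fintype G
  open Polynomial in
  have hdeg : ∀ s : Finset G, ∀ j ≤ s.card,
      (∏ σ ∈ s, (Polynomial.X - Polynomial.C (σ • f))).coeff j ∈ 𝒜 ((s.card - j) * m) := by
    intro s
    induction s using Finset.induction with
    | empty =>
      intro j hj
      obtain rfl : j = 0 := by simpa using hj
      simpa using (SetLike.GradedOne.one_mem : (1 : A) ∈ 𝒜 0)
    | insert σ s hσ ih =>
      intro j hj
      rw [Finset.card_insert_of_notMem hσ] at hj ⊢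
      rw [Finset.prod_insert hσ]
      have hnd : (∏ τ ∈ s, (Polynomial.X - Polynomial.C (τ • f))).natDegree ≤ s.card := by
        refine (Polynomial.natDegree_prod_le _ _).trans ((Finset.sum_le_card_nsmul _ _ 1 fun τ _ =>
          Polynomial.natDegree_X_sub_C_le _).trans (by simp))
      rcases j with _ | j
      · rw [Polynomial.mul_coeff_zero]
        simp only [Polynomial.coeff_sub, Polynomial.coeff_X_zero, Polynomial.coeff_C_zero, zero_sub,
          neg_mul]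
        refine neg_mem ?_
        rw [Nat.sub_zero, add_mul, one_mul, add_comm]
        exact SetLike.mul_mem_graded (hGdeg σ m f hfm) (by simpa using ih 0 (Nat.zero_le _))
      · rw [sub_mul, Polynomial.coeff_sub, Polynomial.coeff_X_mul, Polynomial.coeff_C_mul,
          Nat.add_sub_add_right]
        refine sub_mem (ih j (by omega)) ?_
        rcases eq_or_lt_of_le (show j ≤ s.card by omega) with rfl | hlt
        · rw [Polynomial.coeff_eq_zero_of_natDegree_lt (by omega), mul_zero]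
          exact zero_mem _
        · rw [show (s.card - j) * m = m + (s.card - (j + 1)) * m by
            rw [show s.card - j = (s.card - (j + 1)) + 1 by omega, add_mul, one_mul, add_comm]]
          exact SetLike.mul_mem_graded (hGdeg σ m f hfm) (ih (j + 1) hlt)
  by_contra! hcon
  have hp : MulSemiringAction.charpoly G f =
      ∏ σ : G, (Polynomial.X - Polynomial.C (σ • f)) := MulSemiringAction.charpoly_eq G f
  have hlow : ∀ j < Fintype.card G, (MulSemiringAction.charpoly G f).coeff j ∈ P := by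
    intro j hj
    obtain ⟨y, hy, hιy⟩ := (hιdeg ((Fintype.card G - j) * m)
      ((MulSemiringAction.charpoly G f).coeff j)).mpr
      ⟨by rw [hp]; exact hdeg Finset.univ j hj.le,
        fun σ => MulSemiringAction.smul_coeff_charpoly f j σ⟩
    rw [← hιy]
    exact hcon _ y (Nat.mul_pos (by omega) hm) hy
  refine hf (‹P.IsPrime›.mem_of_pow_mem (Fintype.card G) ?_)
  have h0 := MulSemiringAction.eval_charpoly G f
  have hnat : (MulSemiringAction.charpoly G f).natDegree = Fintype.card G := by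
    rw [hp]
    rcases subsingleton_or_nontrivial A with hA | hA
    · exact absurd (Subsingleton.elim f 0 ▸ zero_mem P) hf
    · rw [Polynomial.natDegree_prod_of_monic _ _ fun σ _ => Polynomial.monic_X_sub_C _]
      simp
  rw [Polynomial.eval_eq_sum_range, hnat, Finset.sum_range_succ] at h0
  have hlead : (MulSemiringAction.charpoly G f).coeff (Fintype.card G) = 1 := by
    rw [← hnat]; exact (MulSemiringAction.monic_charpoly G f).coeff_natDegree
  rw [hlead, one_mul] at h0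
  rw [eq_neg_of_add_eq_zero_right h0]
  exact neg_mem (Ideal.sum_mem _ fun j hj => P.mul_mem_right _ (hlow j (Finset.mem_range.1 hj)))

theorem exists_pos_notMem (P : Ideal A)
    (h : ¬ (HomogeneousIdeal.irrelevant 𝒜).toIdeal ≤ P) :
    ∃ (m : ℕ) (f : A), 0 < m ∧ f ∈ 𝒜 m ∧ f ∉ P := by
  classical
  by_contra! hcon
  refine h fun a ha => ?_
  rw [← DirectSum.sum_support_decompose 𝒜 a]
  refine Ideal.sum_mem _ fun i _ => ?_
  rcases Nat.eq_zero_or_pos i with rfl | hi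
  · rw [show ((DirectSum.decompose 𝒜 a) 0 : A) = 0 from
      (HomogeneousIdeal.mem_irrelevant_iff 𝒜 a).1 ha]
    exact zero_mem P
  · exact hcon i _ hi (SetLike.coe_mem _)

end Groth.Agent.ZBProjQuot
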